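import Groth.Agent.TopFin.QC

/-!
# Generating sets closed under fibre products; inverse images
-/

set_option autoImplicit false
open CategoryTheory CategoryTheory.Limits Opposite
open ToposFin
universe w u

namespace Groth.Agent.TopFin.Alg

open Groth.Agent.TopFin.QC

variable {C : Type u} [SmallCategory C] {J : GrothendieckTopology C}

attribute [local simp] pullback.lift_fst pullback.lift_snd pullback.lift_fst_assoc pullback.lift_snd_assoc
  prod.lift_fst prod.lift_snd

theorem isQC_pullback_of_mem {S : Set (Sh J)} (hqc : ∀ K ∈ S, IsQC K) (hpb : ClosedUnderPullbacks S)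
    {K L M : Sh J} (hK : K ∈ S) (hL : L ∈ S) (hM : M ∈ S) (f : K ⟶ M) (g : L ⟶ M) :
    IsQC (pullback f g) := by
  obtain ⟨P, p, q, hP, hpq⟩ := hpb f g hK hL hM
  exact isQC_of_iso hpq.isoPullback (hqc P hP)

/-- Members of a generating set of quasi-compact objects stable under fibre products are coherent. -/
theorem isCoherent_of_mem {S : Set (Sh J)} (hqc : ∀ K ∈ S, IsQC K) (hgen : IsGenerating S)
    (hpb : ClosedUnderPullbacks S) {M : Sh J} (hM : M ∈ S) : IsCoherent M :=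
  ⟨hqc M hM, isQS_of_gens (gens_set hgen) M fun _ s hK =>
    isQCHom_of_gens (gens_set hgen) s fun _ t hL => isQC_pullback_of_mem hqc hpb hK hL hM s t⟩

/-- A morphism out of a quasi-separated object is quasi-separated if products of generators are so. -/
theorem isQSHom_of_prod {P : Sh J → Prop} (hP : Gens P) (hPqc : ∀ K, P K → IsQC K)
    (hprod : ∀ K L, P K → P L → IsQS (K ⨯ L)) {X Y : Sh J} (f : X ⟶ Y) (hX : IsQS X) :
    IsQSHom f := by
  obtain ⟨ι, F, π, hF, hπ⟩ := hP X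
  refine isQSHom_of_lifts hP hPqc f hX π hπ (fun i => hPqc _ (hF i)) fun i j => ?_
  have : Mono (prod.lift (pullback.fst (π i ≫ f) (π j ≫ f)) (pullback.snd (π i ≫ f) (π j ≫ f))) :=
    ⟨fun a b h => pullback.hom_ext (by simpa using congrArg (· ≫ prod.fst) h)
      (by simpa using congrArg (· ≫ prod.snd) h)⟩
  exact isQS_of_mono (prod.lift (pullback.fst (π i ≫ f) (π j ≫ f)) (pullback.snd _ _))
    (hprod _ _ (hF i) (hF j))

theorem isQS_prod {S : Set (Sh J)} (hqc : ∀ K ∈ S, IsQC K) (hgen : IsGenerating S)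
    (hpb : ClosedUnderPullbacks S) (heq : ClosedUnderEqualizers S) {A B : Sh J} (hA : A ∈ S)
    (hB : B ∈ S) : IsQS (A ⨯ B) := by
  refine isQS_of_gens (gens_set hgen) _ fun K s hK => isQCHom_of_gens (gens_set hgen) s fun L t hL => ?_
  obtain ⟨P, p, q, hP, hpq⟩ := hpb (s ≫ prod.fst) (t ≫ prod.fst) hK hL hA
  obtain ⟨E, e, w, hE, ⟨he⟩⟩ := heq (p ≫ s ≫ prod.snd) (q ≫ t ≫ prod.snd) hP hB
  refine isQC_of_section (pullback.lift (e ≫ p) (e ≫ q) ?_)
    (Fork.IsLimit.lift he (hpq.lift (pullback.fst s t) (pullback.snd s t)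
      (by simp [pullback.condition_assoc])) (by simp [pullback.condition_assoc]))
    (pullback.hom_ext ?_ ?_) (hqc E hE)
  · refine Limits.prod.hom_ext ?_ (by simpa using w)
    simp only [Category.assoc]
    exact congrArg (e ≫ ·) hpq.w
  · simp only [Category.assoc, pullback.lift_fst, Category.id_comp]
    exact (Fork.IsLimit.lift_ι_assoc he p).trans (hpq.lift_fst _ _ _)
  · simp only [Category.assoc, pullback.lift_snd, Category.id_comp]
    exact (Fork.IsLimit.lift_ι_assoc he q).trans (hpq.lift_snd _ _ _)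

theorem exists_data (hE : IsAlgebraic J) : ∃ P : Sh J → Prop, Gens P ∧ (∀ K, P K → IsCoherent K) ∧
    ∀ K L, P K → P L → IsQS (K ⨯ L) := by
  obtain ⟨S, hqc, hgen, hpb, heq⟩ := hE
  exact ⟨(· ∈ S), gens_set hgen, fun _ h => isCoherent_of_mem hqc hgen hpb h,
    fun _ _ h h' => isQS_prod hqc hgen hpb heq h h'⟩

theorem hasQCGenerators (hE : IsAlgebraic J) : HasQCGenerators J := by
  obtain ⟨P, hP, hc, -⟩ := exists_data hE
  exact hasQCGenerators_of_gens hP fun K h => (hc K h).1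

theorem isQS_iff (hE : IsAlgebraic J) {X Y : Sh J} (f : X ⟶ Y) (hY : IsQS Y) :
    IsQS X ↔ IsQSHom f := by
  obtain ⟨P, hP, hc, hprod⟩ := exists_data hE
  exact ⟨fun hX => isQSHom_of_prod hP (fun K h => (hc K h).1) hprod f hX,
    fun hf => isQS_of_isQSHom f hf hY⟩

theorem isCoherent_iff (hE : IsAlgebraic J) {X Y : Sh J} (f : X ⟶ Y) (hY : IsCoherent Y) :
    IsCoherent X ↔ IsCohHom f :=
  ⟨fun hX => ⟨isQCHom_of_isQC_of_isQS f hX.1 hY.2, (isQS_iff hE f hY.2).1 hX.2⟩,
    fun hf => ⟨isQC_of_isQCHom hf.1 hY.1, (isQS_iff hE f hY.2).2 hf.2⟩⟩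

/-! ## Inverse image functors -/

variable {D : Type u} [SmallCategory D] {K : GrothendieckTopology D}
  {F : Sh K ⥤ Sh J} {R : Sh J ⥤ Sh K} (adj : F ⊣ R)
include adj

theorem je_map {ι : Type w} {G : ι → Sh K} {X : Sh K} {π : ∀ i, G i ⟶ X} (h : JE π) :
    JE (fun i => F.map (π i)) := fun Z a b hab => (adj.homEquiv X Z).injective (h _ _ fun i => by
  rw [← adj.homEquiv_naturality_left, ← adj.homEquiv_naturality_left, hab i])

theorem isQC_map {P : Sh K → Prop} (hP : Gens P) (h : ∀ X, P X → IsQC (F.obj X)) {X : Sh K}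
    (hX : IsQC X) : IsQC (F.obj X) := by
  obtain ⟨n, G, p, hG, hp⟩ := exists_fin_cover hP hX
  exact isQC_of_cover (fun k => F.map (p k)) (je_map adj hp) fun k => h _ (hG k)

variable [PreservesFiniteLimits F]
omit adj

theorem isQC_pullback_map (hFqc : ∀ X : Sh K, IsQC X → IsQC (F.obj X)) {X Y Z : Sh K} (f : X ⟶ Z)
    (g : Y ⟶ Z) (h : IsQC (pullback f g)) : IsQC (pullback (F.map f) (F.map g)) :=
  isQC_of_iso ((IsPullback.of_hasPullback f g).map F).isoPullback (hFqc _ h)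

include adj

theorem isQS_map (hE' : HasQCGenerators J) {S : Set (Sh K)} (hS : ∀ X ∈ S, IsCoherent X)
    (hgen : IsGenerating S) (h : ∀ X ∈ S, IsCoherent (F.obj X)) {X : Sh K} (hX : IsQS X) :
    IsQS (F.obj X) := by
  obtain ⟨ι, G, π, hG, hπ⟩ := gens_set hgen X
  refine ((isQS_iff_of_coherent_cover hE' (fun i => F.map (π i)) (je_map adj hπ)
    fun i => h _ (hG i)).2).2 fun i j => ?_
  exact isQC_pullback_map (fun Y hY => isQC_map adj (gens_set hgen) (fun Z hZ => (h Z hZ).1) hY) _ _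
    (hX _ _ (π i) (π j) (hS _ (hG i)).1 (hS _ (hG j)).1)

theorem isQCHom_map' (hE' : HasQCGenerators J) {S : Set (Sh K)} (hS : ∀ X ∈ S, IsCoherent X)
    (hgen : IsGenerating S) (hFqc : ∀ X : Sh K, IsQC X → IsQC (F.obj X))
    (hFqs : ∀ X : Sh K, IsQS X → IsQS (F.obj X)) {X Y : Sh K} {v : X ⟶ Y} (hv : IsQCHom v) :
    IsQCHom (F.map v) := by
  obtain ⟨ι, G, π, hG, hπ⟩ := gens_set hgen Y
  refine isQCHom_of_local hE' (F.map v) _ (je_map adj hπ) fun i => ?_
  exact isQCHom_of_isQC_of_isQS _ (isQC_pullback_map hFqc v (π i) (hv _ _ (hS _ (hG i)).1))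
    (hFqs _ (hS _ (hG i)).2)

end Groth.Agent.TopFin.Alg
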