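import Groth.Agent.TopFin.QC
import Mathlib.CategoryTheory.Limits.Shapes.StrictInitial

/-!
# Coproducts and finiteness conditions in a sheaf topos
-/

set_option autoImplicit false
open CategoryTheory CategoryTheory.Limits Opposite
open ToposFin
universe w u

namespace Groth.Agent.TopFin.Coprod

open Groth.Agent.TopFin.QC Groth.Agent.Topos

variable {C : Type u} [SmallCategory C] {J : GrothendieckTopology C}

theorem isQC_of_hom_initial {T Z : Sh J} (hZ : IsInitial Z) (t : T ⟶ Z) : IsQC T :=
  have := hZ.isIso_to t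
  isQC_of_iso (asIso t).symm (isQC_of_isInitial hZ)

variable {ι : Type u} {X : ι → Sh J} {c : Cofan X} (hc : IsColimit c)
include hc

theorem je_inj : JE c.inj := fun _ _ _ h => Cofan.IsColimit.hom_ext hc _ _ h

theorem isUniversalColimit : IsUniversalColimit c := by
  obtain ⟨c₀, hc₀, -, hu⟩ := Sheaf.exists_cofan J X
  exact hu.of_iso (hc₀.uniqueUpToIso hc)

theorem mono_inj (i : ι) : Mono (c.inj i) := by
  obtain ⟨_, _, hd, -⟩ := Sheaf.exists_cofan J X
  exact Mono.of_coproductDisjoint hc i

theorem isInitial_pullback {i j : ι} (hij : i ≠ j) :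
    Nonempty (IsInitial (pullback (c.inj i) (c.inj j))) := by
  obtain ⟨_, _, hd, -⟩ := Sheaf.exists_cofan J X
  exact ⟨IsInitial.ofCoproductDisjointOfIsColimit hij hc⟩

open Classical in
/-- Members of a quasi-compact coproduct are quasi-compact. -/
theorem isQC_member (h : IsQC c.pt) (i : ι) : IsQC (X i) := by
  refine isQC_iff.2 fun κ F π hπ => ?_
  let G' : κ ⊕ {j : ι // j ≠ i} → Sh J := Sum.elim F fun j => X j.1
  let σ' : ∀ k, G' k ⟶ c.pt := fun k => match k with
    | Sum.inl k => π k ≫ c.inj i
    | Sum.inr j => c.inj j.1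
  have hσ : JE σ' := fun Z a b hab => Cofan.IsColimit.hom_ext hc _ _ fun j => by
    by_cases hj : j = i
    · subst hj
      exact hπ _ _ fun k => (Category.assoc _ _ _).symm.trans ((hab (Sum.inl k)).trans (Category.assoc _ _ _))
    · exact hab (Sum.inr ⟨j, hj⟩)
  obtain ⟨s, hs⟩ := isQC_iff.1 h _ G' σ' hσ
  refine ⟨s.toLeft, fun Z a b hab => ?_⟩
  let ext : (X i ⟶ Z) → (c.pt ⟶ Z ⨿ ⊤_ (Sh J)) := fun a => Cofan.IsColimit.desc hc fun j =>
    if hj : j = i then eqToHom (by rw [hj]) ≫ a ≫ coprod.inl else terminal.from _ ≫ coprod.inr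
  have hext : ∀ a, c.inj i ≫ ext a = a ≫ coprod.inl := fun a => by
    simp only [ext, Cofan.IsColimit.fac, dif_pos rfl]
    exact Category.id_comp _
  have heq : ext a = ext b := hs _ _ fun ⟨k, hk⟩ => by
    obtain k | j := k
    · have e : π k ≫ a = π k ≫ b := hab ⟨k, Finset.mem_toLeft.2 hk⟩
      change (π k ≫ c.inj i) ≫ ext a = (π k ≫ c.inj i) ≫ ext b
      rw [Category.assoc, Category.assoc, hext, hext, reassoc_of% e]
    · change c.inj j.1 ≫ ext a = c.inj j.1 ≫ ext b
      simp only [ext, Cofan.IsColimit.fac, dif_neg j.2]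
  have := congrArg (c.inj i ≫ ·) heq
  simp only [hext] at this
  exact (cancel_mono coprod.inl).1 this

/-- In a quasi-compact coproduct almost all members are initial. -/
theorem finite_nonInitial (h : IsQC c.pt) :
    {i | IsEmpty (X i ≅ ⊥_ (Sh J))}.Finite := by
  classical
  obtain ⟨s, hs⟩ := isQC_iff.1 h _ _ _ (je_inj hc)
  refine s.finite_toSet.subset fun i hi => by_contra fun his => ?_
  let T := ⊤_ (Sh J)
  let a : c.pt ⟶ T ⨿ T := Cofan.IsColimit.desc hc fun _ => terminal.from _ ≫ coprod.inl
  let b : c.pt ⟶ T ⨿ T := Cofan.IsColimit.desc hc fun j =>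
    if j = i then terminal.from _ ≫ coprod.inr else terminal.from _ ≫ coprod.inl
  have hab : a = b := hs _ _ fun ⟨j, hj⟩ => by
    have : j ≠ i := fun e => his (by simpa [e] using hj)
    simp only [a, b, Cofan.IsColimit.fac, if_neg this]
  have := congrArg (c.inj i ≫ ·) hab
  simp only [a, b, Cofan.IsColimit.fac, if_true] at this
  have hp := FinitaryExtensive.isPullback_initial_to_binaryCofan
    (coprodIsCoprod T T)
  let t := hp.lift (terminal.from (X i)) (terminal.from (X i)) this
  exact hi.false (asIso t)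

/-- A morphism from a quasi-compact object to a coproduct breaks up into finitely many quasi-compact
pieces. -/
theorem pieces {T : Sh J} (hT : IsQC T) (a : T ⟶ c.pt) :
    (∀ i, IsQC (pullback a (c.inj i))) ∧
      ∃ s : Finset ι, JE (fun i : s => pullback.fst a (c.inj i)) := by
  have hje := (je_inj hc).pullback a
  refine ⟨fun i => ?_, isQC_iff.1 hT _ _ _ hje⟩
  let c' : Cofan (fun i => pullback a (c.inj i)) := Cofan.mk T fun i => pullback.fst a (c.inj i)
  obtain ⟨hc'⟩ := (isUniversalColimit hc).nonempty_isColimit_of_isPullback_left (fun i => c.inj i)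
    (𝟙 c.pt) a (fun i => pullback.fst a (c.inj i)) (fun i => pullback.snd a (c.inj i))
    (fun i => IsPullback.of_hasPullback _ _) (IsPullback.of_horiz_isIso ⟨Category.id_comp a |>.trans (Category.comp_id a).symm⟩ : IsPullback (𝟙 T) a a (𝟙 c.pt)) c' (Iso.refl _)
    (fun i => Category.comp_id _) (fun i => by simp [c']) (fun i => by simp [c', pullback.condition])
  exact isQC_member (c := c') hc' hT i

theorem isQCHom_inj (i : ι) : IsQCHom (c.inj i) := fun _ t hT =>
  isQC_pullback_comm _ _ ((pieces hc hT t).1 i)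

theorem isQS_pt (h : ∀ i, IsQS (X i)) : IsQS c.pt := by
  intro A B a b hA hB
  obtain ⟨hAi, s, hs⟩ := pieces hc hA a
  obtain ⟨hBi, t, ht⟩ := pieces hc hB b
  refine isQC_pullback_of_cover a b _ hs fun i => ?_
  refine isQC_pullback_of_cover_right _ b _ ht fun j => ?_
  refine isQC_of_iso (pullback.congrHom pullback.condition pullback.condition).symm ?_
  by_cases hij : i.1 = j.1
  · obtain ⟨i, hi⟩ := i
    obtain ⟨j, hj⟩ := j
    obtain rfl : i = j := hij
    have := mono_inj hc i
    exact isQC_of_section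
      (pullback.lift (pullback.fst (pullback.snd a (c.inj i)) (pullback.snd b (c.inj i)))
        (pullback.snd _ _) (by rw [pullback.condition_assoc]))
      (pullback.lift (pullback.fst (pullback.snd a (c.inj i) ≫ c.inj i) (pullback.snd b (c.inj i) ≫ c.inj i))
        (pullback.snd _ _) ((cancel_mono (c.inj i)).1
          (by simp only [Category.assoc]; exact pullback.condition)))
      (pullback.hom_ext (by simp [pullback.lift_fst]) (by simp [pullback.lift_snd]))
      (h i _ _ _ _ (hAi i) (hBi i))
  · obtain ⟨hI⟩ := isInitial_pullback hc hij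
    exact isQC_of_hom_initial hI (pullback.lift (pullback.fst _ _ ≫ pullback.snd a _)
      (pullback.snd _ _ ≫ pullback.snd b _) (by
        simp only [Category.assoc]
        exact pullback.condition))

theorem isQSHom_iff_inj {Y : Sh J} (f : c.pt ⟶ Y) : IsQSHom f ↔ ∀ i, IsQSHom (c.inj i ≫ f) := by
  constructor
  · intro h i
    have := mono_inj hc i
    refine (isQSHom_iff _).2 fun T a b hab hT => ?_
    exact isQC_of_section (equalizer.lift (equalizer.ι (a ≫ c.inj i) (b ≫ c.inj i))
        ((cancel_mono (c.inj i)).1 (by simpa using equalizer.condition (a ≫ c.inj i) (b ≫ c.inj i))))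
      (equalizer.lift (equalizer.ι a b) (by rw [equalizer.condition_assoc]))
      (equalizer.hom_ext (by simp [equalizer.lift_ι]))
      ((isQSHom_iff f).1 h T _ _ (by simpa using hab) hT)
  · intro h
    refine (isQSHom_iff f).2 fun T a b hab hT => ?_
    obtain ⟨hTi, s, hs⟩ := pieces hc hT a
    refine isQC_equalizer_of_cover a b _ hs fun i => ?_
    obtain ⟨hTij, t, ht⟩ := pieces hc (hTi i) (pullback.fst a (c.inj i) ≫ b)
    refine isQC_equalizer_of_cover _ _ _ ht fun j => ?_
    let p := pullback.fst (pullback.fst a (c.inj i.1) ≫ b) (c.inj j.1)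
    let x : pullback (pullback.fst a (c.inj i.1) ≫ b) (c.inj j.1) ⟶ X i.1 :=
      p ≫ pullback.snd a (c.inj i.1)
    let y := pullback.snd (pullback.fst a (c.inj i.1) ≫ b) (c.inj j.1)
    have hx : p ≫ pullback.fst a (c.inj i.1) ≫ a = x ≫ c.inj i.1 := by
      simp only [x, Category.assoc, pullback.condition]
    have hy : p ≫ pullback.fst a (c.inj i.1) ≫ b = y ≫ c.inj j.1 := pullback.condition
    by_cases hij : i.1 = j.1
    · obtain ⟨i, hi⟩ := i
      obtain ⟨j, hj⟩ := j
      obtain rfl : i = j := hij
      have := mono_inj hc i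
      have hxy : x ≫ c.inj i ≫ f = y ≫ c.inj i ≫ f := by
        rw [← reassoc_of% hx, ← reassoc_of% hy, hab]
      refine isQC_of_section (equalizer.lift (equalizer.ι x y) ?_) (equalizer.lift (equalizer.ι _ _) ?_)
        (equalizer.hom_ext ?_) ((isQSHom_iff _).1 (h i) _ x y hxy (hTij i))
      · rw [hx, hy, ← Category.assoc, equalizer.condition, Category.assoc]
      · refine (cancel_mono (c.inj i)).1 ?_
        simpa [← hx, ← hy] using equalizer.condition (p ≫ pullback.fst a (c.inj i) ≫ a)
          (p ≫ pullback.fst a (c.inj i) ≫ b)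
      · simp [equalizer.lift_ι]
    · obtain ⟨hI⟩ := isInitial_pullback hc hij
      refine isQC_of_hom_initial hI (pullback.lift (equalizer.ι _ _ ≫ x) (equalizer.ι _ _ ≫ y) ?_)
      simp only [Category.assoc, ← hx, ← hy]
      exact equalizer.condition _ _

end Groth.Agent.TopFin.Coprod
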