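import Groth.Agent.TopFin.Site
import Groth.Agent.TopFin.Coprod

/-!
# Filtered colimits and finiteness in a sheaf topos
-/

set_option autoImplicit false
open CategoryTheory CategoryTheory.Limits Opposite
open ToposFin
universe w u

namespace Groth.Agent.TopFin.Colim

open Groth.Agent.TopFin.QC Groth.Agent.Topos

variable {C : Type u} [SmallCategory C] {J : GrothendieckTopology C}
  {I : Type u} [SmallCategory I]

theorem sheafifyCocone_ι_hom {D : I ⥤ Sh J} (E : Cocone (D ⋙ sheafToPresheaf J (Type u))) (i : I) :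
    ((Sheaf.sheafifyCocone E).ι.app i).hom = E.ι.app i ≫ toSheafify J E.pt := by
  let adj := sheafificationAdjunction J (Type u)
  have h₁ : (inv (adj.counit.app (D.obj i))).hom = adj.unit.app (D.obj i).obj := by
    have ha := adj.right_triangle_components (D.obj i)
    have hb := congrArg InducedCategory.Hom.hom (IsIso.inv_hom_id (adj.counit.app (D.obj i)))
    exact (cancel_mono ((sheafToPresheaf J (Type u)).map (adj.counit.app (D.obj i)))).1 (hb.trans ha.symm)
  have h₂ : ((Sheaf.sheafifyCocone E).ι.app i) =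
      inv (adj.counit.app (D.obj i)) ≫ (presheafToSheaf J (Type u)).map (E.ι.app i) := by
    simp [Sheaf.sheafifyCocone, adj]
  rw [h₂]
  change (inv (adj.counit.app (D.obj i))).hom ≫ sheafifyMap J (E.ι.app i) = _
  rw [h₁]
  exact (adj.unit.naturality (E.ι.app i)).symm

variable [IsFiltered I]

/-- Two maps equal in a filtered colimit agree locally at some stage. -/
theorem je_eq_stage (D : I ⥤ Sh J) {i : I} {X : Sh J} (a b : X ⟶ D.obj i)
    (h : a ≫ colimit.ι D i = b ≫ colimit.ι D i) :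
    JE (fun p : Σ j, (i ⟶ j) => equalizer.ι (a ≫ D.map p.2) (b ≫ D.map p.2)) := by
  let E := colimit.cocone (D ⋙ sheafToPresheaf J (Type u))
  have hc := Sheaf.isColimitSheafifyCocone E (colimit.isColimit _)
  have h' : a ≫ (Sheaf.sheafifyCocone E).ι.app i = b ≫ (Sheaf.sheafifyCocone E).ι.app i := by
    rw [← IsColimit.comp_coconePointUniqueUpToIso_hom (colimit.isColimit D) hc i]
    exact (Category.assoc _ _ _).symm.trans ((congrArg (· ≫ _) h).trans (Category.assoc _ _ _))
  refine (je_of_covering (Gen.covering_gen J X)).trans (κ := fun p => Σ W : C, {l : W ⟶ p.1 //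
      ∃ j, ∃ φ : i ⟶ j, (Site.epsMap J l ≫ p.2) ≫ a ≫ D.map φ = (Site.epsMap J l ≫ p.2) ≫ b ≫ D.map φ})
    (σ := fun p q => Site.epsMap J q.2.1) (fun ⟨V, t⟩ => ?_) |>.of_factor _ ?_
  · have he : E.pt.map (𝟙 _) = 𝟙 _ := E.pt.map_id (op V)
    have hx : (toSheafify J E.pt).app (op V) ((E.ι.app i).app (op V) (Gen.homEquiv J (t ≫ a))) =
        (toSheafify J E.pt).app (op V) ((E.ι.app i).app (op V) (Gen.homEquiv J (t ≫ b))) := by
      have h₂ : Gen.homEquiv J ((t ≫ a) ≫ (Sheaf.sheafifyCocone E).ι.app i) =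
          Gen.homEquiv J ((t ≫ b) ≫ (Sheaf.sheafifyCocone E).ι.app i) := by
        rw [Category.assoc, Category.assoc, h']
      rw [Gen.homEquiv_comp J (t ≫ a), Gen.homEquiv_comp J (t ≫ b), sheafifyCocone_ι_hom] at h₂
      exact h₂
    have hmem := Presheaf.equalizerSieve_mem J (toSheafify J E.pt) _ _ hx
    refine (Site.je_of_mem J hmem).of_factor _ fun ⟨W, l, hl⟩ => ?_
    have hev := isColimitOfPreserves ((evaluation Cᵒᵖ (Type u)).obj (op W))
      (colimit.isColimit (D ⋙ sheafToPresheaf J (Type u)))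
    have hl' : (E.ι.app i).app (op W) ((D.obj i).obj.map l.op (Gen.homEquiv J (t ≫ a))) =
        (E.ι.app i).app (op W) ((D.obj i).obj.map l.op (Gen.homEquiv J (t ≫ b))) :=
      (NatTrans.naturality_apply (E.ι.app i) l.op _).trans
        (hl.trans (NatTrans.naturality_apply (E.ι.app i) l.op _).symm)
    obtain ⟨j, φ, hφ⟩ := (Types.FilteredColimit.isColimit_eq_iff' hev _ _).1 hl'
    refine ⟨⟨W, l, j, φ, (Gen.homEquiv J).injective ?_⟩, 𝟙 _, Category.id_comp _⟩
    have key : ∀ c : X ⟶ D.obj i, Gen.homEquiv J ((Site.epsMap J l ≫ t) ≫ c ≫ D.map φ) =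
        (D.map φ).hom.app (op W) ((D.obj i).obj.map l.op (Gen.homEquiv J (t ≫ c))) := fun c => by
      rw [← Gen.homEquiv_map, ← Gen.homEquiv_comp]
      simp only [Category.assoc]
    rw [key, key]
    exact hφ
  · rintro ⟨⟨V, t⟩, W, l, j, φ, hl⟩
    exact ⟨⟨j, φ⟩, equalizer.lift (Site.epsMap J l ≫ t) hl, equalizer.lift_ι _ _⟩

theorem exists_bound {ι : Type w} [Finite ι] {i : I} (j : ι → I) (φ : ∀ k, i ⟶ j k) :
    ∃ (m : I) (ψ : i ⟶ m), ∀ k, ∃ χ : j k ⟶ m, φ k ≫ χ = ψ := by
  suffices H : ∀ (n : ℕ) (j : Fin n → I) (φ : ∀ k, i ⟶ j k),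
      ∃ (m : I) (ψ : i ⟶ m), ∀ k, ∃ χ : j k ⟶ m, φ k ≫ χ = ψ by
    obtain ⟨n, ⟨e⟩⟩ := Finite.exists_equiv_fin ι
    obtain ⟨m, ψ, hm⟩ := H n (fun k => j (e.symm k)) fun k => φ _
    exact ⟨m, ψ, fun k => by
      obtain ⟨r, rfl⟩ := e.symm.surjective k
      exact hm r⟩
  intro n
  induction n with
  | zero => exact fun j φ => ⟨i, 𝟙 i, fun k => k.elim0⟩
  | succ n ih =>
    intro j φ
    obtain ⟨m, ψ, hm⟩ := ih (fun k => j k.succ) fun k => φ k.succ
    obtain ⟨s, α, β, hs⟩ := IsFiltered.span ψ (φ 0)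
    refine ⟨s, ψ ≫ α, Fin.cases ⟨β, hs.symm⟩ fun k => ?_⟩
    obtain ⟨χ, hχ⟩ := hm k
    exact ⟨χ ≫ α, by rw [← hχ, Category.assoc]⟩

theorem exists_eq_stage {X : Sh J} (hX : IsQC X) (D : I ⥤ Sh J) {i : I} (a b : X ⟶ D.obj i)
    (h : a ≫ colimit.ι D i = b ≫ colimit.ι D i) : ∃ j, ∃ φ : i ⟶ j, a ≫ D.map φ = b ≫ D.map φ := by
  obtain ⟨n, idx, hidx⟩ := exists_fin hX (je_eq_stage D a b h)
  obtain ⟨m, ψ, hm⟩ := exists_bound (fun k => (idx k).1) fun k => (idx k).2
  refine ⟨m, ψ, hidx _ _ fun k => ?_⟩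
  obtain ⟨χ, hχ⟩ := hm k
  rw [← hχ, Functor.map_comp]
  simp only [← Category.assoc]
  exact congrArg (· ≫ D.map χ) (by simpa using equalizer.condition (a ≫ D.map (idx k).2) (b ≫ D.map (idx k).2))

theorem exists_hom_stage (hE : HasQCGenerators J) {X : Sh J} (hX : IsCoherent X) (D : I ⥤ Sh J)
    (t : X ⟶ colimit D) : ∃ i, ∃ a : X ⟶ D.obj i, a ≫ colimit.ι D i = t := by
  obtain ⟨n, K, p, idx, l, hK, hp, hl⟩ := exists_lift (gens_qc hE) hX.1 t
    (F := D.obj) (π := colimit.ι D) (je_of_covering (Gen.covering_colimit (colimit.isColimit D)))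
  classical
  obtain ⟨j₀, hj₀⟩ := IsFiltered.sup_objs_exists (Finset.univ.image idx)
  let u : ∀ k, idx k ⟶ j₀ := fun k => (hj₀ (Finset.mem_image_of_mem _ (Finset.mem_univ k))).some
  let g := fun k => l k ≫ D.map (u k)
  have hg : ∀ k, g k ≫ colimit.ι D j₀ = p k ≫ t := fun k => by
    simp only [g, Category.assoc, colimit.w, hl]
  have hpair : ∀ q : Fin n × Fin n, ∃ j, ∃ φ : j₀ ⟶ j,
      (pullback.fst (p q.1) (p q.2) ≫ g q.1) ≫ D.map φ =
        (pullback.snd (p q.1) (p q.2) ≫ g q.2) ≫ D.map φ := fun q =>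
    exists_eq_stage (hX.2 _ _ (p q.1) (p q.2) (hK _) (hK _)) D _ _ (by
      simp only [Category.assoc, hg, pullback.condition_assoc])
  choose j φ hφ using hpair
  obtain ⟨m, ψ, hm⟩ := exists_bound j φ
  have hd := hp
  obtain ⟨a, ha⟩ := (Gen.axioms J).exists_desc (f := fun k : ULift.{u} (Fin n) => p k.down)
    (JE.covering fun Z x y hxy => hp x y fun k => hxy ⟨k⟩) (fun k => g k.down ≫ D.map ψ)
    (fun k k' T x y hxy => by
      obtain ⟨χ, hχ⟩ := hm (k.down, k'.down)
      have := congrArg (fun s => pullback.lift x y hxy ≫ s ≫ D.map χ) (hφ (k.down, k'.down))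
      simp only [Category.assoc, pullback.lift_fst_assoc, pullback.lift_snd_assoc] at this
      rw [← hχ, Functor.map_comp]
      exact this)
  refine ⟨m, a, hp _ _ fun k => ?_⟩
  rw [← Category.assoc]
  exact (congrArg (· ≫ colimit.ι D m) (ha ⟨k⟩)).trans (by rw [Category.assoc, colimit.w, hg])

/-! ## The comparison map -/

theorem post_ι (X : Sh J) (D : I ⥤ Sh J) (i : I) (a : X ⟶ D.obj i) :
    colimit.post D (coyoneda.obj (op X)) (colimit.ι (D ⋙ coyoneda.obj (op X)) i a) =
      a ≫ colimit.ι D i :=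
  ConcreteCategory.congr_hom (colimit.ι_post D (coyoneda.obj (op X)) i) a

theorem injective_post_iff (X : Sh J) (D : I ⥤ Sh J) :
    Function.Injective (colimit.post D (coyoneda.obj (op X))) ↔ ∀ i (a b : X ⟶ D.obj i),
      a ≫ colimit.ι D i = b ≫ colimit.ι D i → ∃ j, ∃ φ : i ⟶ j, a ≫ D.map φ = b ≫ D.map φ := by
  have hcol := colimit.isColimit (D ⋙ coyoneda.obj (op X))
  constructor
  · intro h i a b hab
    exact (Types.FilteredColimit.isColimit_eq_iff' hcol a b).1
      (h ((post_ι X D i a).trans (hab.trans (post_ι X D i b).symm)))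
  · intro h x y hxy
    obtain ⟨i, a, rfl⟩ := Types.jointly_surjective_of_isColimit hcol x
    obtain ⟨j, b, rfl⟩ := Types.jointly_surjective_of_isColimit hcol y
    have hab := (post_ι X D i a).symm.trans (hxy.trans (post_ι X D j b))
    obtain ⟨k, φ, hφ⟩ := h (IsFiltered.max i j) (a ≫ D.map (IsFiltered.leftToMax i j))
      (b ≫ D.map (IsFiltered.rightToMax i j)) (by simp only [Category.assoc, colimit.w]; exact hab)
    refine (Types.FilteredColimit.isColimit_eq_iff _ hcol).2
      ⟨k, IsFiltered.leftToMax i j ≫ φ, IsFiltered.rightToMax i j ≫ φ, ?_⟩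
    change a ≫ D.map _ = b ≫ D.map _
    simpa using hφ

theorem surjective_post_iff (X : Sh J) (D : I ⥤ Sh J) :
    Function.Surjective (colimit.post D (coyoneda.obj (op X))) ↔
      ∀ t : X ⟶ colimit D, ∃ i, ∃ a : X ⟶ D.obj i, a ≫ colimit.ι D i = t := by
  constructor
  · intro h t
    obtain ⟨x, rfl⟩ := h t
    obtain ⟨i, a, rfl⟩ := Types.jointly_surjective_of_isColimit
      (colimit.isColimit (D ⋙ coyoneda.obj (op X))) x
    exact ⟨i, a, (post_ι X D i a).symm⟩
  · intro h t
    obtain ⟨i, a, rfl⟩ := h t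
    exact ⟨_, post_ι X D i a⟩

theorem bijective_post (hE : HasQCGenerators J) {X : Sh J} (hX : IsCoherent X) (D : I ⥤ Sh J) :
    Function.Bijective (colimit.post D (coyoneda.obj (op X))) :=
  ⟨(injective_post_iff X D).2 fun _ => exists_eq_stage hX.1 D,
    (surjective_post_iff X D).2 (exists_hom_stage hE hX D)⟩

omit [IsFiltered I] in
theorem isFP_of_coherent (hE : HasQCGenerators J) {X : Sh J} (hX : IsCoherent X) : IsFP X :=
  fun _ _ _ D => bijective_post hE hX D

omit [IsFiltered I] in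
/-- If maps out of `X` into filtered colimits are determined at finite stages, `X` is quasi-compact. -/
theorem isQC_of_injective_post (X : Sh J)
    (h : ∀ (I : Type u) [SmallCategory I] [IsFiltered I] (D : I ⥤ Sh J),
      Function.Injective (colimit.post D (coyoneda.obj (op X)))) : IsQC X := by
  classical
  refine isQC_iff.2 fun ι F π hπ => ?_
  let p : ∀ s : Finset ι, (∐ fun k : s => F k.1) ⟶ X := fun s => Sigma.desc fun k => π k.1
  let D : Finset ι ⥤ Sh J :=
    { obj := fun s => pushout (p s) (p s)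
      map := fun {s t} hst => pushout.desc (pushout.inl _ _) (pushout.inr _ _) (by
        refine Sigma.hom_ext _ _ fun k => ?_
        have := congrArg (Sigma.ι (fun k : t => F k.1) ⟨k.1, leOfHom hst k.2⟩ ≫ ·)
          (pushout.condition (f := p t) (g := p t))
        simpa [p] using this)
      map_id := fun s => pushout.hom_ext (by simp [pushout.inl_desc]) (by simp [pushout.inr_desc])
      map_comp := fun f g => pushout.hom_ext (by simp [pushout.inl_desc, pushout.inl_desc_assoc])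
        (by simp [pushout.inr_desc, pushout.inr_desc_assoc]) }
  have hab : pushout.inl (p ∅) (p ∅) ≫ colimit.ι D ∅ = pushout.inr (p ∅) (p ∅) ≫ colimit.ι D ∅ := by
    refine hπ _ _ fun i => ?_
    have hi : (∅ : Finset ι) ≤ {i} := Finset.empty_subset _
    rw [← colimit.w D (homOfLE hi)]
    simp only [← Category.assoc]
    refine congrArg (· ≫ colimit.ι D {i}) ?_
    simp only [Category.assoc, D, pushout.inl_desc, pushout.inr_desc]
    have := congrArg (Sigma.ι (fun k : ({i} : Finset ι) => F k.1) ⟨i, Finset.mem_singleton_self i⟩ ≫ ·)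
      (pushout.condition (f := p {i}) (g := p {i}))
    simp only [p, colimit.ι_desc_assoc, Cofan.mk_ι_app] at this
    exact this
  obtain ⟨s, φ, hs⟩ := (injective_post_iff X D).1 (h _ D) ∅ _ _ hab
  simp only [D, pushout.inl_desc, pushout.inr_desc] at hs
  refine ⟨s, fun Z a b hab' => ?_⟩
  have := congrArg (· ≫ pushout.desc a b (Sigma.hom_ext _ _ fun k => by
    simpa [p] using hab' k)) hs
  simpa [pushout.inl_desc, pushout.inr_desc] using this

omit [IsFiltered I] in
theorem isQC_of_isFP {X : Sh J} (hX : IsFP X) : IsQC X :=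
  isQC_of_injective_post X fun I _ _ D => (hX I D).1

omit [IsFiltered I] in
theorem isFP_coequalizer {X₀ X₁ : Sh J} (a b : X₁ ⟶ X₀) (h₀ : IsFP X₀) (h₁ : IsFP X₁) :
    IsFP (coequalizer a b) := fun I _ _ D => by
  refine ⟨(injective_post_iff _ D).2 fun i x y hxy => ?_, (surjective_post_iff _ D).2 fun t => ?_⟩
  · obtain ⟨j, φ, hφ⟩ := (injective_post_iff _ D).1 (h₀ I D).1 i (coequalizer.π a b ≫ x)
      (coequalizer.π a b ≫ y) (by simp only [Category.assoc, hxy])
    exact ⟨j, φ, (cancel_epi (coequalizer.π a b)).1 (by simpa using hφ)⟩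
  · obtain ⟨i, x, hx⟩ := (surjective_post_iff _ D).1 (h₀ I D).2 (coequalizer.π a b ≫ t)
    obtain ⟨j, φ, hφ⟩ := (injective_post_iff _ D).1 (h₁ I D).1 i (a ≫ x) (b ≫ x)
      (by
        simp only [Category.assoc, hx]
        simp only [← Category.assoc]
        exact congrArg (· ≫ t) (coequalizer.condition a b))
    refine ⟨j, coequalizer.desc (x ≫ D.map φ) (by simpa using hφ),
      (cancel_epi (coequalizer.π a b)).1 ?_⟩
    rw [coequalizer.π_desc_assoc, Category.assoc, colimit.w, hx]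

omit [IsFiltered I] in
theorem isFP_of_retract {X Y : Sh J} (i : X ⟶ Y) (p : Y ⟶ X) (hip : i ≫ p = 𝟙 X) (hY : IsFP Y) :
    IsFP X := fun I _ _ D => by
  refine ⟨(injective_post_iff _ D).2 fun j x y hxy => ?_, (surjective_post_iff _ D).2 fun t => ?_⟩
  · obtain ⟨k, φ, hφ⟩ := (injective_post_iff _ D).1 (hY I D).1 j (p ≫ x) (p ≫ y)
      (by simp only [Category.assoc, hxy])
    refine ⟨k, φ, ?_⟩
    have := congrArg (i ≫ ·) hφ
    simp only [Category.assoc, reassoc_of% hip] at this
    exact this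
  · obtain ⟨k, x, hx⟩ := (surjective_post_iff _ D).1 (hY I D).2 (p ≫ t)
    exact ⟨k, i ≫ x, by rw [Category.assoc, hx, reassoc_of% hip]⟩

/-! ## Presentations by generators -/

omit [IsFiltered I] in
/-- Desc along a single epimorphism. -/
theorem exists_desc_epi {K X Z : Sh J} (r : K ⟶ X) [Epi r] (e : K ⟶ Z)
    (h : pullback.fst r r ≫ e = pullback.snd r r ≫ e) : ∃ t : X ⟶ Z, r ≫ t = e := by
  obtain ⟨t, ht⟩ := (Gen.axioms J).exists_desc (f := fun _ : PUnit.{u + 1} => r)
    (JE.covering ((je_unit_iff r).2 inferInstance)) (fun _ => e) fun _ _ T x y hxy => by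
      have := congrArg (pullback.lift x y hxy ≫ ·) h
      simpa only [pullback.lift_fst_assoc, pullback.lift_snd_assoc] using this
  exact ⟨t, ht ⟨⟩⟩

omit [IsFiltered I] in
/-- A finitely presentable object is a retract of a coequalizer of finite sums of generators. -/
theorem exists_retract {P : Sh J → Prop} (hP : Gens P) {X : Sh J} (hX : IsFP X) :
    ∃ (n m : ℕ) (K : Fin n → Sh J) (L : Fin m → Sh J) (a b : ∐ L ⟶ ∐ K)
      (i : X ⟶ coequalizer a b) (p : coequalizer a b ⟶ X),
      (∀ k, P (K k)) ∧ (∀ k, P (L k)) ∧ i ≫ p = 𝟙 X := by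
  classical
  obtain ⟨n, K, g, hK, hg⟩ := exists_fin_cover hP (isQC_of_isFP hX)
  let r := Sigma.desc g
  have : Epi r := epi_desc_iff.2 hg
  obtain ⟨ι, L, π, hL, hπ⟩ := hP (pullback r r)
  let L' : ∀ s : Finset ι, Fin s.card → Sh J := fun s k => L (s.equivFin.symm k).1
  let a : ∀ s, (∐ L' s) ⟶ ∐ K := fun s => Sigma.desc fun k => π _ ≫ pullback.fst r r
  let b : ∀ s, (∐ L' s) ⟶ ∐ K := fun s => Sigma.desc fun k => π _ ≫ pullback.snd r r
  have hmem : ∀ (t : Finset ι) (i : ι), i ∈ t → π i ≫ pullback.fst r r ≫ coequalizer.π (a t) (b t) =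
      π i ≫ pullback.snd r r ≫ coequalizer.π (a t) (b t) := by
    intro t i hi
    obtain ⟨k, hk⟩ := t.equivFin.symm.surjective ⟨i, hi⟩
    obtain rfl : (t.equivFin.symm k).1 = i := congrArg Subtype.val hk
    have := congrArg (Sigma.ι (L' t) k ≫ ·) (coequalizer.condition (a t) (b t))
    simpa [a, b] using this
  let D : Finset ι ⥤ Sh J :=
    { obj := fun s => coequalizer (a s) (b s)
      map := fun {s t} hst => coequalizer.desc (coequalizer.π (a t) (b t))
        (Sigma.hom_ext _ _ fun k => by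
          simpa [a, b] using hmem t _ (leOfHom hst (s.equivFin.symm k).2))
      map_id := fun s => coequalizer.hom_ext (by simp)
      map_comp := fun f g => coequalizer.hom_ext (by simp) }
  let c : Cocone D :=
    { pt := X
      ι := { app := fun s => coequalizer.desc r (Sigma.hom_ext _ _ fun k => by
                simp [a, b, pullback.condition])
             naturality := fun s t f => coequalizer.hom_ext (by simp [D]) } }
  let e := coequalizer.π (a ∅) (b ∅) ≫ colimit.ι D ∅
  obtain ⟨t, ht⟩ := exists_desc_epi r e (hπ _ _ fun i => by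
    have hi : (∅ : Finset ι) ≤ {i} := Finset.empty_subset _
    simp only [e, ← colimit.w D (homOfLE hi)]
    simp only [D, coequalizer.π_desc_assoc]
    simpa using congrArg (· ≫ colimit.ι D {i}) (hmem {i} i (Finset.mem_singleton_self i)))
  obtain ⟨s, x, hx⟩ := (surjective_post_iff X D).1 (hX _ D).2 t
  refine ⟨n, s.card, K, L' s, a s, b s, x, c.ι.app s, hK, fun k => hL _, ?_⟩
  have h₁ : t ≫ colimit.desc D c = 𝟙 X := (cancel_epi r).1 (by
    rw [reassoc_of% ht]
    simp only [e, Category.assoc, colimit.ι_desc]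
    exact (coequalizer.π_desc _ _).trans (Category.comp_id r).symm)
  rw [← hx, Category.assoc, colimit.ι_desc] at h₁
  exact h₁

omit [IsFiltered I] in
theorem isCoherent_sigma {n : ℕ} (K : Fin n → Sh J) (hK : ∀ k, IsCoherent (K k)) :
    IsCoherent (∐ K) := by
  let c : Cofan (fun k : ULift.{u} (Fin n) => K k.down) := Cofan.mk (∐ K) fun k => Sigma.ι K k.down
  let hc : IsColimit c := Cofan.IsColimit.mk c (fun s => Sigma.desc fun i => s.inj ⟨i⟩)
    (fun s k => Sigma.ι_desc _ _)
    (fun s m hm => Sigma.hom_ext _ _ fun i => (hm ⟨i⟩).trans (Sigma.ι_desc (fun i => s.inj ⟨i⟩) i).symm)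
  exact ⟨isQC_of_cover (Sigma.ι K) (fun _ _ _ h => Sigma.hom_ext _ _ h) fun k => (hK k).1,
    Coprod.isQS_pt hc fun k => (hK k.down).2⟩

end Groth.Agent.TopFin.Colim
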