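import Groth.Agent.TopFin.QC
import Mathlib.CategoryTheory.Limits.Yoneda

/-!
# Sheaves attached to objects of the site
-/

set_option autoImplicit false
open CategoryTheory CategoryTheory.Limits Opposite
open ToposFin
universe w u

namespace Groth.Agent.TopFin.Site

open Groth.Agent.TopFin.QC Groth.Agent.Topos

variable {C : Type u} [SmallCategory C] (J : GrothendieckTopology C)

/-- The map of associated sheaves attached to an arrow of the site. -/
noncomputable abbrev epsMap {X Y : C} (g : X ⟶ Y) : eps J X ⟶ eps J Y :=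
  (presheafToSheaf J (Type u)).map (yoneda.map g)

theorem epsMap_comp {X Y Z : C} (g : X ⟶ Y) (h : Y ⟶ Z) :
    epsMap J (g ≫ h) = epsMap J g ≫ epsMap J h := by simp [epsMap]

theorem homEquiv_epsMap {X Y : C} (g : X ⟶ Y) :
    Gen.homEquiv J (epsMap J g) = (toSheafify J (yoneda.obj Y)).app (op X) g := by
  change yonedaEquiv ((sheafificationAdjunction J (Type u)).homEquiv _ _ _) = _
  rw [Adjunction.homEquiv_unit]
  have h := (sheafificationAdjunction J (Type u)).unit.naturality (yoneda.map g)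
  refine (congrArg yonedaEquiv h.symm).trans ?_
  change (toSheafify J (yoneda.obj Y)).app (op X) (𝟙 X ≫ g) = _
  rw [Category.id_comp]

theorem je_of_mem {X : C} {S : Sieve X} (hS : S ∈ J X) :
    JE (fun p : Σ Y : C, {f : Y ⟶ X // S f} => epsMap J p.2.1) :=
  je_of_covering (Gen.covering_of_mem J hS)

/-- Morphisms between the attached sheaves come locally from arrows. -/
theorem exists_repr {V X : C} (T : eps J V ⟶ eps J X) :
    ∃ S ∈ J V, ∀ ⦃W : C⦄ (l : W ⟶ V), S l → ∃ g : W ⟶ X, epsMap J l ≫ T = epsMap J g := by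
  refine ⟨_, Presheaf.imageSieve_mem J (toSheafify J (yoneda.obj X)) (Gen.homEquiv J T),
    fun W l ⟨g, hg⟩ => ⟨g, (Gen.homEquiv J).injective ?_⟩⟩
  exact ((Gen.homEquiv_map J l T).trans hg.symm).trans (homEquiv_epsMap J g).symm

/-- A sieve whose arrows induce a jointly epimorphic family is covering. -/
theorem mem_of_je {X : C} (R : Sieve X)
    (h : JE (fun p : Σ Y : C, {f : Y ⟶ X // R f} => epsMap J p.2.1)) : R ∈ J X := by
  let m := (presheafToSheaf J (Type u)).map R.functorInclusion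
  have : Epi m := ⟨fun a b hab => h a b fun p => by
    let t : yoneda.obj p.1 ⟶ R.functor := yonedaEquiv.symm ⟨p.2.1, p.2.2⟩
    have ht : t ≫ R.functorInclusion = yoneda.map p.2.1 := yonedaEquiv.injective (by
      simp [t, yonedaEquiv_apply, Sieve.functorInclusion]
      rfl)
    have := congrArg ((presheafToSheaf J (Type u)).map t ≫ ·) hab
    simp only [m, ← Category.assoc, ← Functor.map_comp, ht] at this
    exact this⟩
  have hW : J.W R.functorInclusion :=
    (J.W_iff _).2 (isIso_of_mono_of_epi m)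
  have := hW.isLocallySurjective
  refine J.superset_covering (fun W l hl => ?_)
    (Presheaf.imageSieve_mem J R.functorInclusion (U := op X) (𝟙 X))
  obtain ⟨⟨f, hf⟩, hfl⟩ := hl
  have hfl' : f = l ≫ 𝟙 X := hfl
  exact (hfl'.trans (Category.comp_id l)) ▸ hf

theorem gens_eps : Gens (J := J) fun K => ∃ V, eps J V = K := fun X =>
  ⟨_, _, _, fun p : Σ V : C, (eps J V ⟶ X) => ⟨p.1, rfl⟩, je_of_covering (Gen.covering_gen J X)⟩

theorem isQC_eps_iff (X : C) : IsQCSite J X ↔ IsQC (eps J X) := by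
  classical
  constructor
  · intro hX
    refine isQC_iff.2 fun ι F π hπ => ?_
    let R : Sieve X :=
      { arrows := fun Y g => ∃ i, ∃ l : eps J Y ⟶ F i, l ≫ π i = epsMap J g
        downward_closed := by
          rintro Y Z g ⟨i, l, hl⟩ k
          exact ⟨i, epsMap J k ≫ l, by rw [Category.assoc, hl, epsMap_comp]⟩ }
    have hR : R ∈ J X := mem_of_je J R fun Z a b hab => hπ a b fun i =>
      je_of_covering (Gen.covering_gen J (F i)) _ _ fun ⟨V, t⟩ => by
        obtain ⟨S, hS, hS'⟩ := exists_repr J (t ≫ π i)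
        refine je_of_mem J hS _ _ fun ⟨W, l, hl⟩ => ?_
        obtain ⟨g, hg⟩ := hS' l hl
        have := hab ⟨W, g, i, epsMap J l ≫ t, by rw [Category.assoc, hg]⟩
        simp only [← hg, Category.assoc] at this
        exact this
    obtain ⟨n, V, g, hg, hmem⟩ := hX R hR
    choose i l hl using hg
    refine ⟨Finset.univ.image i, fun Z a b hab => je_of_mem J hmem a b fun ⟨W, f, hf⟩ => ?_⟩
    obtain ⟨Y, k, _, hq, rfl⟩ := hf
    obtain ⟨j⟩ := hq
    have := hab ⟨i j, Finset.mem_image_of_mem _ (Finset.mem_univ _)⟩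
    simp only [epsMap_comp, Category.assoc, ← hl j, this]
  · intro hX S hS
    obtain ⟨n, idx, h⟩ := exists_fin hX (je_of_mem J hS)
    refine ⟨n, fun k => (idx k).1, fun k => (idx k).2.1, fun k => (idx k).2.2, mem_of_je J _ ?_⟩
    exact h.of_factor _ fun k => ⟨⟨_, _, Sieve.ofArrows_mk _ _ k⟩, 𝟙 _, Category.id_comp _⟩

theorem isPullback_eps {P V W X : C} {p : P ⟶ V} {q : P ⟶ W} {f : V ⟶ X} {g : W ⟶ X}
    (h : IsPullback p q f g) :
    IsPullback (epsMap J p) (epsMap J q) (epsMap J f) (epsMap J g) :=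
  (h.map yoneda).map (presheafToSheaf J (Type u))

variable [HasPullbacks C] (hC : ∀ X : C, IsQCSite J X)
include hC

omit [HasPullbacks C] in
/-- A morphism between the attached sheaves is, on a finite covering, given by arrows. -/
theorem exists_fin_repr {V X : C} (T : eps J V ⟶ eps J X) :
    ∃ (n : ℕ) (W : Fin n → C) (l : ∀ k, W k ⟶ V) (g : ∀ k, W k ⟶ X),
      JE (fun k => epsMap J (l k)) ∧ ∀ k, epsMap J (l k) ≫ T = epsMap J (g k) := by
  obtain ⟨S, hS, hS'⟩ := exists_repr J T
  obtain ⟨n, idx, h⟩ := exists_fin ((isQC_eps_iff J V).1 (hC V)) (je_of_mem J hS)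
  choose g hg using fun k => hS' _ (idx k).2.2
  exact ⟨n, fun k => (idx k).1, fun k => (idx k).2.1, g, h, hg⟩

theorem isCoherent_eps (X : C) : IsCoherent (eps J X) := by
  refine ⟨(isQC_eps_iff J X).1 (hC X), isQS_of_gens (gens_eps J) _ ?_⟩
  rintro _ s ⟨V, rfl⟩
  refine isQCHom_of_gens (gens_eps J) s ?_
  rintro _ t ⟨W, rfl⟩
  obtain ⟨n, A, l, g, hl, hg⟩ := exists_fin_repr J hC s
  obtain ⟨m, B, l', g', hl', hg'⟩ := exists_fin_repr J hC t
  refine isQC_pullback_of_cover s t _ hl fun i => ?_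
  refine isQC_pullback_of_cover_right _ t _ hl' fun j => ?_
  refine isQC_of_iso (pullback.congrHom (hg i) (hg' j)).symm ?_
  exact isQC_of_iso (isPullback_eps J (IsPullback.of_hasPullback (g i) (g' j))).isoPullback
    ((isQC_eps_iff J _).1 (hC _))

theorem isQSHom_to_eps {X : C} {G : Sh J} (g : G ⟶ eps J X) (hG : IsQS G) : IsQSHom g := by
  let ι := Σ V : C, {t : eps J V ⟶ G // ∃ a : V ⟶ X, t ≫ g = epsMap J a}
  have hcov : JE (fun p : ι => p.2.1) := fun Z a b hab =>
    je_of_covering (Gen.covering_gen J G) a b fun ⟨V, t⟩ => by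
      obtain ⟨S, hS, hS'⟩ := exists_repr J (t ≫ g)
      refine je_of_mem J hS _ _ fun ⟨W, l, hl⟩ => ?_
      obtain ⟨c, hc⟩ := hS' l hl
      simpa using hab ⟨W, epsMap J l ≫ t, c, by rw [Category.assoc, hc]⟩
  refine isQSHom_of_lifts ((gens_eps J).mono ?_) (fun _ h => h) g hG _ hcov
    (fun p => (isQC_eps_iff J _).1 (hC _)) fun p q => ?_
  · rintro _ ⟨V, rfl⟩
    exact (isQC_eps_iff J V).1 (hC V)
  obtain ⟨a, ha⟩ := p.2.2
  obtain ⟨b, hb⟩ := q.2.2
  exact (isCoherent_of_iso ((isPullback_eps J (IsPullback.of_hasPullback a b)).isoPullback ≪≫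
    (pullback.congrHom ha hb).symm) (isCoherent_eps J hC _)).2

end Groth.Agent.TopFin.Site
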