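import Groth.Prelude.Def_ToposFin2
import Groth.Agent.Topos.Gen
import Mathlib.CategoryTheory.Sites.LeftExact

/-!
# Quasi-compact and quasi-separated objects and morphisms of a topos of sheaves
-/

set_option autoImplicit false
open CategoryTheory CategoryTheory.Limits Opposite
open ToposFin
universe w w' u

namespace Groth.Agent.TopFin.QC

variable {C : Type u} [SmallCategory C] {J : GrothendieckTopology C}

attribute [local simp] pullback.lift_fst pullback.lift_snd pullback.lift_fst_assoc pullback.lift_snd_assoc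
  equalizer.lift_ι equalizer.lift_ι_assoc Fork.ι_ofι equalizer.condition equalizer.condition_assoc

/-- Joint epimorphy of a family. -/
def JE {ι : Type w} {F : ι → Sh J} {X : Sh J} (π : ∀ i, F i ⟶ X) : Prop :=
  ∀ ⦃Z : Sh J⦄ (a b : X ⟶ Z), (∀ i, π i ≫ a = π i ≫ b) → a = b

section JE

variable {ι : Type w} {F : ι → Sh J} {X : Sh J} {π : ∀ i, F i ⟶ X}

theorem epi_desc_iff [HasCoproduct F] : Epi (Sigma.desc π) ↔ JE π := by
  constructor
  · intro _ Z a b h
    exact (cancel_epi (Sigma.desc π)).1 (Sigma.hom_ext _ _ fun i => by simpa using h i)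
  · intro h
    exact ⟨fun a b hab => h a b fun i => by simpa using congrArg (Sigma.ι F i ≫ ·) hab⟩

theorem JE.of_factor (h : JE π) {κ : Type w'} {G : κ → Sh J} (σ : ∀ k, G k ⟶ X)
    (hσ : ∀ i, ∃ (k : κ) (l : F i ⟶ G k), l ≫ σ k = π i) : JE σ := by
  intro Z a b hab
  refine h a b fun i => ?_
  obtain ⟨k, l, hl⟩ := hσ i
  rw [← hl, Category.assoc, Category.assoc, hab]

theorem JE.trans (h : JE π) {κ : ι → Type w'} {G : ∀ i, κ i → Sh J} {σ : ∀ i k, G i k ⟶ F i}
    (hσ : ∀ i, JE (σ i)) : JE (fun p : Σ i, κ i => σ p.1 p.2 ≫ π p.1) :=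
  fun Z a b hab => h a b fun i => hσ i _ _ fun k => by simpa using hab ⟨i, k⟩

theorem JE.covering (h : JE π) : Topos.Cover.Covering π := by
  intro M m _ hm
  have : Epi m := ⟨fun a b hab => h a b fun i => by
    obtain ⟨g, hg⟩ := hm i
    rw [← hg, Category.assoc, Category.assoc, hab]⟩
  exact isIso_of_mono_of_epi m

theorem je_of_covering (h : Topos.Cover.Covering π) : JE π :=
  fun _ _ _ hab => Topos.Cover.covering_hom_ext h hab

theorem je_unit_iff {Y : Sh J} (p : Y ⟶ X) : JE (fun _ : PUnit.{w + 1} => p) ↔ Epi p :=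
  ⟨fun h => ⟨fun a b hab => h a b fun _ => hab⟩, fun _ _ _ _ hab => (cancel_epi p).1 (hab ⟨⟩)⟩

end JE

/-- Jointly epimorphic families are stable under base change. -/
theorem JE.pullback {ι : Type u} {F : ι → Sh J} {X Y : Sh J} {π : ∀ i, F i ⟶ X} (h : JE π)
    (g : Y ⟶ X) : JE (fun i => Limits.pullback.fst g (π i)) :=
  je_of_covering ((Topos.Gen.axioms J).covering_pullback h.covering g)

/-- Base change of finite jointly epimorphic families. -/
theorem JE.pullback_finite {κ : Type w} [Finite κ] {F : κ → Sh J} {X Y : Sh J} {π : ∀ i, F i ⟶ X}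
    (h : JE π) (g : Y ⟶ X) : JE (fun i => Limits.pullback.fst g (π i)) := by
  obtain ⟨n, ⟨e⟩⟩ := Finite.exists_equiv_fin κ
  have h' : JE (fun i : ULift.{u} (Fin n) => π (e.symm i.down)) := fun Z a b hab => h a b fun k => by
    obtain ⟨i, rfl⟩ := e.symm.surjective k
    exact hab ⟨i⟩
  exact fun Z a b hab => (h'.pullback g) a b fun i => hab _

/-! ## Quasi-compact objects -/

theorem isQC_iff {X : Sh J} : IsQC X ↔ ∀ (ι : Type u) (F : ι → Sh J) (π : ∀ i, F i ⟶ X), JE π →
    ∃ s : Finset ι, JE (fun i : s => π i) := by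
  refine forall₃_congr fun ι F π => ?_
  simp only [epi_desc_iff]

theorem exists_fin {X : Sh J} (hX : IsQC X) {ι : Type u} {F : ι → Sh J} {π : ∀ i, F i ⟶ X}
    (h : JE π) : ∃ (n : ℕ) (idx : Fin n → ι), JE (fun k => π (idx k)) := by
  obtain ⟨s, hs⟩ := isQC_iff.1 hX ι F π h
  refine ⟨s.card, fun k => (s.equivFin.symm k).1, fun Z a b hab => hs a b fun i => ?_⟩
  obtain ⟨k, rfl⟩ := s.equivFin.symm.surjective i
  exact hab k

theorem isQC_of_cover {X : Sh J} {κ : Type w} [Finite κ] {Y : κ → Sh J} (p : ∀ k, Y k ⟶ X)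
    (hp : JE p) (h : ∀ k, IsQC (Y k)) : IsQC X := by
  classical
  refine isQC_iff.2 fun ι F π hπ => ?_
  choose s hs using fun k => isQC_iff.1 (h k) ι _ _ (hπ.pullback (p k))
  have := Fintype.ofFinite κ
  refine ⟨Finset.univ.biUnion s, fun Z a b hab => hp a b fun k => hs k _ _ fun i => ?_⟩
  simp only [pullback.condition_assoc]
  rw [hab ⟨i.1, Finset.mem_biUnion.2 ⟨k, Finset.mem_univ k, i.2⟩⟩]

theorem isQC_of_epi {W X : Sh J} (r : W ⟶ X) [Epi r] (hW : IsQC W) : IsQC X :=
  isQC_of_cover (fun _ : PUnit.{1} => r) ((je_unit_iff r).2 inferInstance) fun _ => hW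

theorem isQC_of_section {W X : Sh J} (r : W ⟶ X) (s : X ⟶ W) (h : s ≫ r = 𝟙 X) (hW : IsQC W) :
    IsQC X := by
  have : IsSplitEpi r := IsSplitEpi.mk' ⟨s, h⟩
  exact isQC_of_epi r hW

theorem isQC_of_iso {W X : Sh J} (e : W ≅ X) (hW : IsQC W) : IsQC X :=
  isQC_of_section e.hom e.inv e.inv_hom_id hW

theorem isQC_of_isPullback {P X Y S : Sh J} {fst : P ⟶ X} {snd : P ⟶ Y} {f : X ⟶ S} {g : Y ⟶ S}
    (h : IsPullback fst snd f g) (hP : IsQC (Limits.pullback f g)) : IsQC P :=
  isQC_of_iso h.isoPullback.symm hP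

theorem isQC_pullback_comm {X Y S : Sh J} (f : X ⟶ S) (g : Y ⟶ S)
    (h : IsQC (Limits.pullback g f)) : IsQC (Limits.pullback f g) :=
  isQC_of_iso (pullbackSymmetry g f) h

theorem isQC_of_isInitial {X : Sh J} (h : IsInitial X) : IsQC X :=
  isQC_of_cover (κ := PEmpty.{1}) (Y := fun i => i.elim) (fun i => i.elim)
    (fun _ _ _ _ => h.hom_ext _ _) fun i => i.elim

/-! ## Generating families -/

/-- Every object is covered by objects satisfying `P`. -/
def Gens (P : Sh J → Prop) : Prop :=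
  ∀ X : Sh J, ∃ (ι : Type u) (F : ι → Sh J) (π : ∀ i, F i ⟶ X), (∀ i, P (F i)) ∧ JE π

theorem gens_qc (h : HasQCGenerators J) : Gens (J := J) IsQC := fun X => by
  obtain ⟨ι, F, π, hF, hπ⟩ := h X
  exact ⟨ι, F, π, hF, epi_desc_iff.1 hπ⟩

theorem gens_coherent (h : HasCoherentGenerators J) : Gens (J := J) IsCoherent := fun X => by
  obtain ⟨ι, F, π, hF, hπ⟩ := h X
  exact ⟨ι, F, π, hF, epi_desc_iff.1 hπ⟩

theorem gens_family {α : Type u} (G : α → Sh J)
    (hgen : ∀ X : Sh J, ∃ (ι : Type u) (a : ι → α) (π : ∀ i, G (a i) ⟶ X), Epi (Sigma.desc π)) :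
    Gens (J := J) fun K => ∃ a, G a = K := fun X => by
  obtain ⟨ι, a, π, hπ⟩ := hgen X
  exact ⟨ι, fun i => G (a i), π, fun i => ⟨a i, rfl⟩, epi_desc_iff.1 hπ⟩

theorem gens_set {S : Set (Sh J)} (h : IsGenerating S) : Gens (J := J) (· ∈ S) := h

theorem Gens.mono {P Q : Sh J → Prop} (h : Gens P) (hPQ : ∀ X, P X → Q X) : Gens Q := fun X => by
  obtain ⟨ι, F, π, hF, hπ⟩ := h X
  exact ⟨ι, F, π, fun i => hPQ _ (hF i), hπ⟩

theorem hasQCGenerators_of_gens {P : Sh J → Prop} (h : Gens P) (hP : ∀ X, P X → IsQC X) :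
    HasQCGenerators J := fun X => by
  obtain ⟨ι, F, π, hF, hπ⟩ := h X
  exact ⟨ι, F, π, fun i => hP _ (hF i), epi_desc_iff.2 hπ⟩

theorem exists_fin_cover {P : Sh J → Prop} (hP : Gens P) {T : Sh J} (hT : IsQC T) :
    ∃ (n : ℕ) (K : Fin n → Sh J) (p : ∀ k, K k ⟶ T), (∀ k, P (K k)) ∧ JE p := by
  obtain ⟨ι, F, π, hF, hπ⟩ := hP T
  obtain ⟨n, idx, hidx⟩ := exists_fin hT hπ
  exact ⟨n, fun k => F (idx k), fun k => π (idx k), fun k => hF _, hidx⟩

/-- A map from a quasi-compact object locally lifts to a covering family. -/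
theorem exists_lift {P : Sh J → Prop} (hP : Gens P) {T Y : Sh J} (hT : IsQC T) (t : T ⟶ Y)
    {ι : Type u} {F : ι → Sh J} {π : ∀ i, F i ⟶ Y} (hπ : JE π) :
    ∃ (n : ℕ) (K : Fin n → Sh J) (p : ∀ k, K k ⟶ T) (idx : Fin n → ι) (l : ∀ k, K k ⟶ F (idx k)),
      (∀ k, P (K k)) ∧ JE p ∧ ∀ k, l k ≫ π (idx k) = p k ≫ t := by
  choose κ G σ hG hσ using fun i => hP (Limits.pullback t (π i))
  obtain ⟨n, idx, h⟩ := exists_fin hT ((hπ.pullback t).trans hσ)
  refine ⟨n, _, _, fun k => (idx k).1, fun k => σ _ (idx k).2 ≫ pullback.snd t (π _),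
    fun k => hG _ _, h, fun k => ?_⟩
  simp [pullback.condition]

/-! ## Quasi-compact morphisms -/

theorem IsQCHom.comp {X Y Z : Sh J} {f : X ⟶ Y} {g : Y ⟶ Z} (hf : IsQCHom f) (hg : IsQCHom g) :
    IsQCHom (f ≫ g) := fun T h hT =>
  isQC_of_iso (pullbackRightPullbackFstIso g h f) (hf _ _ (hg T h hT))

theorem IsQCHom.baseChange {P X Y Y' : Sh J} {q : P ⟶ X} {p : P ⟶ Y'} {f : X ⟶ Y} {g : Y' ⟶ Y}
    (hp : IsPullback q p f g) (hf : IsQCHom f) : IsQCHom p := fun T h hT => by
  have h₁ : IsPullback (pullback.fst p h ≫ q) (pullback.snd p h) f (h ≫ g) :=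
    ((IsPullback.of_hasPullback p h).paste_horiz hp) |> fun x => x
  exact isQC_of_isPullback h₁ (hf T _ hT)

theorem isQCHom_of_isIso {X Y : Sh J} (f : X ⟶ Y) [IsIso f] : IsQCHom f := fun T h hT =>
  isQC_of_section (pullback.lift (h ≫ inv f) (𝟙 T) (by simp)) (pullback.snd f h)
    (pullback.hom_ext (by simp [← cancel_mono f, pullback.condition]) (by simp)) hT

theorem IsQCHom.of_comp_mono {X Y Z : Sh J} {f : X ⟶ Y} (m : Y ⟶ Z) [Mono m]
    (h : IsQCHom (f ≫ m)) : IsQCHom f := fun T t hT =>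
  isQC_of_section
    (pullback.lift (pullback.fst (f ≫ m) (t ≫ m)) (pullback.snd (f ≫ m) (t ≫ m))
      (by simp [← cancel_mono m, pullback.condition]))
    (pullback.lift (pullback.fst f t) (pullback.snd f t) (by simp [pullback.condition_assoc]))
    (pullback.hom_ext (by simp) (by simp)) (h T _ hT)

/-- Fibre products can be checked on a finite covering of one factor. -/
theorem isQC_pullback_of_cover {T Z Y : Sh J} (a : T ⟶ Y) (b : Z ⟶ Y) {κ : Type w} [Finite κ]
    {K : κ → Sh J} (p : ∀ k, K k ⟶ T) (hp : JE p) (h : ∀ k, IsQC (Limits.pullback (p k ≫ a) b)) :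
    IsQC (Limits.pullback a b) := by
  refine isQC_of_cover (fun k => pullback.lift (pullback.fst (p k ≫ a) b ≫ p k) (pullback.snd _ b)
    (by rw [Category.assoc, pullback.condition])) ?_ h
  refine (hp.pullback_finite (pullback.fst a b)).of_factor _ fun k => ⟨k,
    pullback.lift (pullback.snd _ _) (pullback.fst _ _ ≫ pullback.snd a b)
      (by rw [← pullback.condition_assoc, Category.assoc, pullback.condition]), ?_⟩
  exact pullback.hom_ext (by simp [pullback.condition]) (by simp)

theorem isQC_pullback_of_cover_right {T Z Y : Sh J} (b : Z ⟶ Y) (a : T ⟶ Y) {κ : Type w} [Finite κ]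
    {K : κ → Sh J} (p : ∀ k, K k ⟶ T) (hp : JE p) (h : ∀ k, IsQC (Limits.pullback b (p k ≫ a))) :
    IsQC (Limits.pullback b a) :=
  isQC_pullback_comm b a (isQC_pullback_of_cover a b p hp fun k => isQC_pullback_comm _ _ (h k))

theorem isQCHom_of_gens {P : Sh J → Prop} (hP : Gens P) {X Y : Sh J} (f : X ⟶ Y)
    (h : ∀ (K : Sh J) (s : K ⟶ Y), P K → IsQC (Limits.pullback f s)) : IsQCHom f := fun T t hT => by
  obtain ⟨n, K, p, hK, hp⟩ := exists_fin_cover hP hT
  exact isQC_pullback_of_cover_right f t p hp fun k => h _ _ (hK k)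

theorem isQCHom_of_finite_cover {Y Z : Sh J} (g : Y ⟶ Z) {κ : Type w} [Finite κ] {X : κ → Sh J}
    (f : ∀ k, X k ⟶ Y) (hf : JE f) (h : ∀ k, IsQCHom (f k ≫ g)) : IsQCHom g := fun T t hT =>
  isQC_pullback_of_cover g t f hf fun k => h k T t hT

/-- Quasi-compactness of a morphism is local on the target. -/
theorem isQCHom_of_local (hE : HasQCGenerators J) {X Y : Sh J} (f : X ⟶ Y) {ι : Type u}
    {Yi : ι → Sh J} (g : ∀ i, Yi i ⟶ Y) (hg : JE g)
    (h : ∀ i, IsQCHom (pullback.snd f (g i))) : IsQCHom f := fun T t hT => by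
  obtain ⟨n, K, p, idx, l, hK, hp, hl⟩ := exists_lift (gens_qc hE) hT t hg
  refine isQC_pullback_of_cover_right f t p hp fun k => ?_
  refine isQC_of_iso (pullback.congrHom rfl (hl k)) ?_
  exact isQC_of_iso (pullbackLeftPullbackSndIso f (g (idx k)) (l k)) (h _ _ (l k) (hK k))

theorem isQCHom_of_isQC_of_isQS {X Y : Sh J} (f : X ⟶ Y) (hX : IsQC X) (hY : IsQS Y) : IsQCHom f :=
  fun T t hT => hY X T f t hX hT

theorem isQC_of_isQCHom {X Y : Sh J} {f : X ⟶ Y} (hf : IsQCHom f) (hY : IsQC Y) : IsQC X :=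
  isQC_of_section (pullback.fst f (𝟙 Y)) (pullback.lift (𝟙 X) f (by simp)) (by simp) (hf Y (𝟙 Y) hY)

/-! ## Quasi-separated morphisms -/

/-- A morphism is quasi-separated iff equalizers of pairs over the target with quasi-compact source
are quasi-compact. -/
theorem isQSHom_iff {X Y : Sh J} (f : X ⟶ Y) : IsQSHom f ↔
    ∀ (T : Sh J) (a b : T ⟶ X), a ≫ f = b ≫ f → IsQC T → IsQC (equalizer a b) := by
  constructor
  · intro h T a b hab hT
    have hd : pullback.fst (pullback.diagonal f) (pullback.lift a b hab) = pullback.snd _ _ ≫ a := by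
      simpa using congrArg (· ≫ pullback.fst f f)
        (pullback.condition (f := pullback.diagonal f) (g := pullback.lift a b hab))
    have hd' : pullback.fst (pullback.diagonal f) (pullback.lift a b hab) = pullback.snd _ _ ≫ b := by
      simpa using congrArg (· ≫ pullback.snd f f)
        (pullback.condition (f := pullback.diagonal f) (g := pullback.lift a b hab))
    exact isQC_of_section (equalizer.lift (pullback.snd _ _) (hd.symm.trans hd'))
      (pullback.lift (equalizer.ι a b ≫ a) (equalizer.ι a b)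
        (pullback.hom_ext (by simp) (by simpa using equalizer.condition a b)))
      (equalizer.hom_ext (by simp)) (h T _ hT)
  · intro h T g hT
    have hab : (g ≫ pullback.fst f f) ≫ f = (g ≫ pullback.snd f f) ≫ f := by
      simp [pullback.condition]
    refine isQC_of_section
      (pullback.lift (equalizer.ι (g ≫ pullback.fst f f) (g ≫ pullback.snd f f) ≫ g ≫ pullback.fst f f)
        (equalizer.ι _ _) (pullback.hom_ext (by simp)
          (by simpa using equalizer.condition (g ≫ pullback.fst f f) (g ≫ pullback.snd f f))))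
      (equalizer.lift (pullback.snd _ g) ?_) (pullback.hom_ext ?_ ?_) (h T _ _ hab hT)
    · have h₁ := congrArg (· ≫ pullback.fst f f) (pullback.condition (f := pullback.diagonal f) (g := g))
      have h₂ := congrArg (· ≫ pullback.snd f f) (pullback.condition (f := pullback.diagonal f) (g := g))
      simp only [Category.assoc, pullback.diagonal_fst, pullback.diagonal_snd, Category.comp_id] at h₁ h₂
      exact h₁.symm.trans h₂
    · have h₁ := congrArg (· ≫ pullback.fst f f) (pullback.condition (f := pullback.diagonal f) (g := g))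
      simp only [Category.assoc, pullback.diagonal_fst, Category.comp_id] at h₁
      simp [h₁]
    · simp

theorem isQC_equalizer_of_cover {T X : Sh J} (a b : T ⟶ X) {κ : Type w} [Finite κ] {K : κ → Sh J}
    (p : ∀ k, K k ⟶ T) (hp : JE p) (h : ∀ k, IsQC (equalizer (p k ≫ a) (p k ≫ b))) :
    IsQC (equalizer a b) := by
  refine isQC_of_cover (fun k => equalizer.lift (equalizer.ι _ _ ≫ p k)
    (by simpa using equalizer.condition (p k ≫ a) (p k ≫ b))) ?_ h
  refine (hp.pullback_finite (equalizer.ι a b)).of_factor _ fun k => ⟨k,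
    equalizer.lift (pullback.snd _ _) (by
      simp only [← pullback.condition_assoc, equalizer.condition a b]),
    equalizer.hom_ext (by simp [pullback.condition])⟩

/-- The basic use of quasi-separatedness: passing from fibre products over the base to fibre products. -/
theorem isQC_pullback_of_isQSHom {A B X Y : Sh J} {f : X ⟶ Y} (hf : IsQSHom f) (a : A ⟶ X)
    (b : B ⟶ X) (h : IsQC (Limits.pullback (a ≫ f) (b ≫ f))) : IsQC (Limits.pullback a b) := by
  let u := pullback.fst (a ≫ f) (b ≫ f) ≫ a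
  let v := pullback.snd (a ≫ f) (b ≫ f) ≫ b
  refine isQC_of_section
    (pullback.lift (equalizer.ι u v ≫ pullback.fst _ _) (equalizer.ι u v ≫ pullback.snd _ _)
      (by simpa [u, v] using equalizer.condition u v))
    (equalizer.lift (pullback.lift (pullback.fst a b) (pullback.snd a b)
      (by rw [pullback.condition_assoc])) (by simp [u, v, pullback.condition]))
    (pullback.hom_ext (by simp) (by simp)) ?_
  exact (isQSHom_iff f).1 hf _ u v (by simpa [u, v] using pullback.condition) h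

theorem IsQSHom.of_comp {X Y Z : Sh J} {f : X ⟶ Y} {g : Y ⟶ Z} (h : IsQSHom (f ≫ g)) : IsQSHom f :=
  (isQSHom_iff f).2 fun T a b hab => (isQSHom_iff _).1 h T a b (by rw [reassoc_of% hab])

theorem IsQCHom.of_comp {X Y Z : Sh J} {f : X ⟶ Y} {g : Y ⟶ Z} (hg : IsQSHom g)
    (h : IsQCHom (f ≫ g)) : IsQCHom f := fun T t hT =>
  isQC_pullback_of_isQSHom hg f t (h T _ hT)

theorem isQSHom_of_mono {X Y : Sh J} (f : X ⟶ Y) [Mono f] : IsQSHom f :=
  (isQSHom_iff f).2 fun T a b hab hT =>
    isQC_of_section (equalizer.lift (𝟙 T) (by simp [(cancel_mono f).1 hab])) (equalizer.ι a b)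
      (equalizer.hom_ext (by simp)) hT

theorem IsQSHom.baseChange {P X Y Y' : Sh J} {q : P ⟶ X} {p : P ⟶ Y'} {f : X ⟶ Y} {g : Y' ⟶ Y}
    (hp : IsPullback q p f g) (hf : IsQSHom f) : IsQSHom p :=
  (isQSHom_iff p).2 fun T a b hab hT => by
    refine isQC_of_section (equalizer.lift (equalizer.ι (a ≫ q) (b ≫ q)) ?_)
      (equalizer.lift (equalizer.ι a b) (by rw [equalizer.condition_assoc]))
      (equalizer.hom_ext ?_) ((isQSHom_iff f).1 hf T _ _ (by simp [hp.w, reassoc_of% hab]) hT)
    · exact hp.hom_ext (by simpa using equalizer.condition (a ≫ q) (b ≫ q)) (by rw [Category.assoc, Category.assoc, hab])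
    · simp

/-- Quasi-separatedness of a morphism is local on the target. -/
theorem isQSHom_of_local (hE : HasQCGenerators J) {X Y : Sh J} (f : X ⟶ Y) {ι : Type u}
    {Yi : ι → Sh J} (g : ∀ i, Yi i ⟶ Y) (hg : JE g)
    (h : ∀ i, IsQSHom (pullback.snd f (g i))) : IsQSHom f :=
  (isQSHom_iff f).2 fun T a b hab hT => by
    obtain ⟨n, K, p, idx, l, hK, hp, hl⟩ := exists_lift (gens_qc hE) hT (a ≫ f) hg
    refine isQC_equalizer_of_cover a b p hp fun k => ?_
    let a' : K k ⟶ pullback f (g (idx k)) := pullback.lift (p k ≫ a) (l k) (by rw [hl, Category.assoc])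
    let b' : K k ⟶ pullback f (g (idx k)) :=
      pullback.lift (p k ≫ b) (l k) (by rw [hl, Category.assoc, hab])
    refine isQC_of_section (equalizer.lift (equalizer.ι a' b') ?_)
      (equalizer.lift (equalizer.ι (p k ≫ a) (p k ≫ b)) (pullback.hom_ext ?_ (by simp [a', b'])))
      (equalizer.hom_ext ?_) ((isQSHom_iff _).1 (h _) _ a' b' (by simp [a', b']) (hK k))
    · have := equalizer.condition a' b'
      have := congrArg (· ≫ pullback.fst f (g (idx k))) this
      simp only [a', b', Category.assoc, pullback.lift_fst] at this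
      exact this
    · simp only [a', b', Category.assoc, pullback.lift_fst]
      exact equalizer.condition (p k ≫ a) (p k ≫ b)
    · simp

/-! ## Quasi-separated objects -/

theorem isQS_of_isQSHom {X Y : Sh J} (f : X ⟶ Y) (hf : IsQSHom f) (hY : IsQS Y) : IsQS X :=
  fun A B a b hA hB => isQC_pullback_of_isQSHom hf a b (hY A B _ _ hA hB)

theorem isQS_of_mono {X Y : Sh J} (i : X ⟶ Y) [Mono i] (hY : IsQS Y) : IsQS X :=
  isQS_of_isQSHom i (isQSHom_of_mono i) hY

theorem isCoherent_of_iso {X Y : Sh J} (e : X ≅ Y) (h : IsCoherent X) : IsCoherent Y :=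
  ⟨isQC_of_iso e h.1, isQS_of_mono e.inv h.2⟩

theorem isQS_of_gens {P : Sh J → Prop} (hP : Gens P) (Y : Sh J)
    (h : ∀ (K : Sh J) (s : K ⟶ Y), P K → IsQCHom s) : IsQS Y := fun A B a b hA hB => by
  obtain ⟨n, K, p, hK, hp⟩ := exists_fin_cover hP hA
  exact isQC_pullback_of_cover a b p hp fun k => h _ _ (hK k) B b hB

/-- An object covered by quasi-separated objects through quasi-compact morphisms is quasi-separated. -/
theorem isQS_of_cover (hE : HasQCGenerators J) {Y : Sh J} {ι : Type u} {Yi : ι → Sh J}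
    (g : ∀ i, Yi i ⟶ Y) (hg : JE g) (hqs : ∀ i, IsQS (Yi i)) (hqc : ∀ i, IsQCHom (g i)) :
    IsQS Y := by
  intro A B a b hA hB
  obtain ⟨n, K, p, idx, l, hK, hp, hl⟩ := exists_lift (gens_qc hE) hA a hg
  refine isQC_pullback_of_cover a b p hp fun k => ?_
  refine isQC_of_iso (pullback.congrHom (hl k) rfl) ?_
  refine isQC_of_iso (pullbackRightPullbackFstIso (g (idx k)) b (l k)) ?_
  exact hqs _ _ _ _ _ (hK k) (hqc _ B b hB)

theorem isQS_iff_of_coherent_cover (hE : HasQCGenerators J) {Y : Sh J} {ι : Type u} {Yi : ι → Sh J}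
    (g : ∀ i, Yi i ⟶ Y) (hg : JE g) (hY : ∀ i, IsCoherent (Yi i)) :
    (IsQS Y ↔ ∀ i, IsQCHom (g i)) ∧ (IsQS Y ↔ ∀ i j, IsQC (Limits.pullback (g i) (g j))) := by
  have h₁ : IsQS Y ↔ ∀ i, IsQCHom (g i) :=
    ⟨fun h i => isQCHom_of_isQC_of_isQS _ (hY i).1 h,
      fun h => isQS_of_cover hE g hg (fun i => (hY i).2) h⟩
  exact ⟨h₁, fun h i j => h _ _ _ _ (hY i).1 (hY j).1, fun h => h₁.2 fun i =>
    isQCHom_of_local hE (g i) g hg fun j => isQCHom_of_isQC_of_isQS _ (h i j) (hY j).2⟩

/-- Quasi-separatedness of a morphism, tested on a covering family of the source. -/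
theorem isQSHom_of_cover_of_source (hE : HasQCGenerators J) {Y Z : Sh J} (g : Y ⟶ Z) {ι : Type u}
    {X : ι → Sh J} (f : ∀ i, X i ⟶ Y) (hf : JE f) (hqc : ∀ i, IsQCHom (f i))
    (h : ∀ i, IsQSHom (f i ≫ g)) : IsQSHom g :=
  (isQSHom_iff g).2 fun T a b hab hT => by
    obtain ⟨n, K, p, idx, l, hK, hp, hl⟩ := exists_lift (gens_qc hE) hT b hf
    refine isQC_equalizer_of_cover a b p hp fun k => ?_
    let W := Limits.pullback (f (idx k)) (p k ≫ a)
    let x : W ⟶ X (idx k) := pullback.fst _ _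
    let y : W ⟶ X (idx k) := pullback.snd _ _ ≫ l k
    have hxy : x ≫ f (idx k) ≫ g = y ≫ f (idx k) ≫ g := by
      simp only [x, y, Category.assoc, reassoc_of% (hl k), pullback.condition_assoc, hab]
    refine isQC_of_section (equalizer.lift (equalizer.ι x y ≫ pullback.snd _ _) ?_)
      (equalizer.lift (pullback.lift (equalizer.ι (p k ≫ a) (p k ≫ b) ≫ l k) (equalizer.ι _ _)
        (by rw [Category.assoc, hl k, equalizer.condition])) (by simp [x, y]))
      (equalizer.hom_ext ?_) ((isQSHom_iff _).1 (h _) W x y hxy (hqc _ (K k) _ (hK k)))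
    · have := congrArg (· ≫ f (idx k)) (equalizer.condition x y)
      simp only [x, y, Category.assoc, hl k] at this
      rw [Category.assoc, Category.assoc, ← this, pullback.condition]
    · simp

/-- Main criterion for a morphism out of a quasi-separated object to be quasi-separated. -/
theorem isQSHom_of_lifts {P : Sh J → Prop} (hP : Gens P) (hPqc : ∀ K, P K → IsQC K) {X Y : Sh J}
    (f : X ⟶ Y) (hX : IsQS X) {ι : Type u} {Xi : ι → Sh J} (g : ∀ i, Xi i ⟶ X) (hg : JE g)
    (hqc : ∀ i, IsQC (Xi i)) (hqs : ∀ i j, IsQS (Limits.pullback (g i ≫ f) (g j ≫ f))) :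
    IsQSHom f :=
  (isQSHom_iff f).2 fun T a b hab hT => by
    obtain ⟨n, K, p, i, l, hK, hp, hl⟩ := exists_lift hP hT a hg
    refine isQC_equalizer_of_cover a b p hp fun k => ?_
    obtain ⟨m, L, q, j, l', hL, hq, hl'⟩ := exists_lift hP (hPqc _ (hK k)) (p k ≫ b) hg
    refine isQC_equalizer_of_cover _ _ q hq fun r => ?_
    let w : L r ⟶ pullback (g (i k) ≫ f) (g (j r) ≫ f) :=
      pullback.lift (q r ≫ l k) (l' r) (by
        simp only [Category.assoc, reassoc_of% (hl k), reassoc_of% (hl' r), hab])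
    let m' : pullback (g (i k)) (g (j r)) ⟶ pullback (g (i k) ≫ f) (g (j r) ≫ f) :=
      pullback.lift (pullback.fst _ _) (pullback.snd _ _) (by rw [pullback.condition_assoc])
    have e₁ : pullback.fst m' w ≫ pullback.fst (g (i k)) (g (j r)) = pullback.snd m' w ≫ q r ≫ l k := by
      simpa [m', w] using congrArg (· ≫ pullback.fst (g (i k) ≫ f) (g (j r) ≫ f))
        (pullback.condition (f := m') (g := w))
    have e₂ : pullback.fst m' w ≫ pullback.snd (g (i k)) (g (j r)) = pullback.snd m' w ≫ l' r := by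
      simpa [m', w] using congrArg (· ≫ pullback.snd (g (i k) ≫ f) (g (j r) ≫ f))
        (pullback.condition (f := m') (g := w))
    have e₃ := congrArg (pullback.fst m' w ≫ ·)
      (pullback.condition (f := g (i k)) (g := g (j r)))
    simp only [reassoc_of% e₁, reassoc_of% e₂, hl k, hl' r] at e₃
    refine isQC_of_section (equalizer.lift (pullback.snd m' w) e₃)
      (pullback.lift (pullback.lift (equalizer.ι (q r ≫ p k ≫ a) (q r ≫ p k ≫ b) ≫ q r ≫ l k)
          (equalizer.ι _ _ ≫ l' r) (by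
            simp only [Category.assoc, hl k, hl' r]
            exact equalizer.condition _ _))
        (equalizer.ι _ _) (pullback.hom_ext (by simp [m', w]) (by simp [m', w])))
      (equalizer.hom_ext (by simp))
      (hqs _ _ _ _ m' w (hX _ _ _ _ (hqc _) (hqc _)) (hPqc _ (hL r)))

/-- Products of morphisms over a base: quasi-compact case. -/
theorem isQCHom_map {X Y X' Y' S : Sh J} {f : X ⟶ Y} {f' : X' ⟶ Y'} (a : Y ⟶ S) (a' : Y' ⟶ S)
    (hf : IsQCHom f) (hf' : IsQCHom f') :
    IsQCHom (pullback.map (f ≫ a) (f' ≫ a') a a' f f' (𝟙 S) (Category.comp_id _) (Category.comp_id _)) := by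
  let m₁ := pullback.map (f ≫ a) (f' ≫ a') a (f' ≫ a') f (𝟙 X') (𝟙 S) (by simp) (by simp)
  let m₂ := pullback.map a (f' ≫ a') a a' (𝟙 Y) f' (𝟙 S) (by simp) (by simp)
  have h₁ : IsQCHom m₁ := fun T t hT => by
    refine isQC_of_section
      (pullback.lift (pullback.lift (pullback.fst f (t ≫ pullback.fst _ _))
          (pullback.snd f (t ≫ pullback.fst a (f' ≫ a')) ≫ t ≫ pullback.snd _ _) (by
          simp only [Category.assoc, pullback.condition_assoc, pullback.condition]))
        (pullback.snd f (t ≫ pullback.fst a (f' ≫ a'))) (pullback.hom_ext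
          (by simp [m₁, pullback.condition]) (by simp [m₁])))
      (pullback.lift (pullback.fst m₁ t ≫ pullback.fst _ _) (pullback.snd m₁ t) (by
        simpa [m₁] using congrArg (· ≫ pullback.fst a (f' ≫ a')) (pullback.condition (f := m₁) (g := t))))
      (pullback.hom_ext (pullback.hom_ext (by simp) ?_) (by simp)) (hf T _ hT)
    simpa [m₁] using (congrArg (· ≫ pullback.snd a (f' ≫ a')) (pullback.condition (f := m₁) (g := t))).symm
  have h₂ : IsQCHom m₂ := fun T t hT => by
    refine isQC_of_section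
      (pullback.lift (pullback.lift (pullback.snd f' (t ≫ pullback.snd a a') ≫ t ≫ pullback.fst _ _)
          (pullback.fst f' (t ≫ pullback.snd a a')) (by
          simp only [Category.assoc, pullback.condition_assoc, pullback.condition]))
        (pullback.snd f' (t ≫ pullback.snd a a')) (pullback.hom_ext
          (by simp [m₂]) (by simp [m₂, pullback.condition])))
      (pullback.lift (pullback.fst m₂ t ≫ pullback.snd _ _) (pullback.snd m₂ t) (by
        simpa [m₂] using congrArg (· ≫ pullback.snd a a') (pullback.condition (f := m₂) (g := t))))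
      (pullback.hom_ext (pullback.hom_ext ?_ (by simp)) (by simp)) (hf' T _ hT)
    simpa [m₂] using (congrArg (· ≫ pullback.fst a a') (pullback.condition (f := m₂) (g := t))).symm
  have : m₁ ≫ m₂ = pullback.map (f ≫ a) (f' ≫ a') a a' f f' (𝟙 S) (Category.comp_id _) (Category.comp_id _) :=
    pullback.hom_ext (by simp [m₁, m₂]) (by simp [m₁, m₂])
  exact this ▸ IsQCHom.comp h₁ h₂

/-- Products of morphisms over a base: quasi-separated case. -/
theorem isQSHom_map {X Y X' Y' S : Sh J} {f : X ⟶ Y} {f' : X' ⟶ Y'} (a : Y ⟶ S) (a' : Y' ⟶ S)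
    (hf : IsQSHom f) (hf' : IsQSHom f') :
    IsQSHom (pullback.map (f ≫ a) (f' ≫ a') a a' f f' (𝟙 S) (Category.comp_id _) (Category.comp_id _)) :=
  (isQSHom_iff _).2 fun T x y hxy hT => by
    have h₁ := congrArg (· ≫ pullback.fst a a') hxy
    have h₂ := congrArg (· ≫ pullback.snd a a') hxy
    simp only [Category.assoc, pullback.lift_fst, pullback.lift_snd] at h₁ h₂
    let e := equalizer.ι (x ≫ pullback.fst _ _) (y ≫ pullback.fst _ _)
    have hE := (isQSHom_iff f').1 hf' _ (e ≫ x ≫ pullback.snd _ _) (e ≫ y ≫ pullback.snd _ _)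
      (by simp [h₂]) ((isQSHom_iff f).1 hf T _ _ (by simpa using h₁) hT)
    refine isQC_of_section (equalizer.lift (equalizer.ι _ _ ≫ e) (pullback.hom_ext ?_ ?_))
      (equalizer.lift (equalizer.lift (equalizer.ι x y) (by rw [equalizer.condition_assoc]))
        (by simp only [e, equalizer.lift_ι_assoc]; rw [equalizer.condition_assoc]))
      (equalizer.hom_ext ?_) hE
    · simp only [Category.assoc]
      exact congrArg (_ ≫ ·) (equalizer.condition (x ≫ pullback.fst _ _) (y ≫ pullback.fst _ _))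
    · simp only [Category.assoc]
      exact equalizer.condition (e ≫ x ≫ pullback.snd _ _) (e ≫ y ≫ pullback.snd _ _)
    · simp [e]

end Groth.Agent.TopFin.QC
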