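import Groth.Agent.TopFin.Colim
import Mathlib.CategoryTheory.Presentable.StrongGenerator
import Mathlib.CategoryTheory.Presentable.Finite

/-!
# Every object of a topos with coherent generators is a filtered colimit of finitely presentable objects
-/

set_option autoImplicit false
open CategoryTheory CategoryTheory.Limits Opposite
open ToposFin
universe u

namespace Groth.Agent.TopFin.Presentable

open Groth.Agent.TopFin.QC Groth.Agent.Topos

variable {C : Type u} [SmallCategory C] {J : GrothendieckTopology C}

theorem isFinitelyPresentable_iff_isFP (X : Sh J) : IsFinitelyPresentable.{u} X ↔ IsFP X := by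
  constructor
  · intro h I _ _ D
    have : IsIso (colimit.post D (coyoneda.obj (op X))) := inferInstance
    exact (isIso_iff_bijective _).1 this
  · intro h
    rw [isFinitelyPresentable_iff_preservesFilteredColimits]
    refine ⟨fun I _ _ => ⟨fun {D} => ?_⟩⟩
    have : IsIso (colimit.post D (coyoneda.obj (op X))) := (isIso_iff_bijective _).2 (h I D)
    exact preservesColimit_of_isIso_post _ _

theorem exists_filtered_colimit (hE : HasCoherentGenerators J) (X : Sh J) :
    ∃ (I : Type u) (_ : SmallCategory I) (_ : IsFiltered I) (D : I ⥤ Sh J),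
      (∀ i, IsFP (D.obj i)) ∧ Nonempty (X ≅ colimit D) := by
  choose ι F π hF hπ using fun V : C => gens_coherent hE (eps J V)
  let G : (Σ V : C, ι V) → Sh J := fun p => F p.1 p.2
  let P : ObjectProperty (Sh J) := ObjectProperty.ofObj G
  have hdet : P.IsDetecting := by
    refine Gen.isDetecting_of_covering G fun Y => JE.covering fun Z a b hab =>
      je_of_covering (Gen.covering_gen J Y) a b fun p => hπ p.1 _ _ fun i => ?_
    simpa using hab ⟨⟨p.1, i⟩, π p.1 i ≫ p.2⟩
  have hgen : P.IsStrongGenerator := by
    rw [ObjectProperty.isStrongGenerator_iff]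
    refine ⟨hdet.isSeparating, fun A B m _ hm => hdet m fun K hK g => ?_⟩
    obtain ⟨g', hg'⟩ := hm K hK g
    exact ⟨g', hg', fun g'' h => (cancel_mono m).1 (h.trans hg'.symm)⟩
  have hqc : HasQCGenerators J :=
    hasQCGenerators_of_gens (gens_coherent hE) fun _ h => h.1
  haveI : Fact Cardinal.aleph0.{u}.IsRegular := Cardinal.fact_isRegular_aleph0
  have hP : P ≤ isCardinalPresentable (Sh J) Cardinal.aleph0.{u} := by
    rintro _ ⟨p⟩
    exact (isFinitelyPresentable_iff_isFP _).2 (Colim.isFP_of_coherent hqc (hF _ _))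
  have := hgen.isDense_colimitsCardinalClosure_ι hP
  have hle := P.colimitsCardinalClosure_le_isCardinalPresentable hP
  obtain ⟨I, hI, hfil, ⟨p⟩⟩ :=
    (IsCardinalFilteredGenerator.of_isDense_ι (P.colimitsCardinalClosure Cardinal.aleph0.{u})
      Cardinal.aleph0.{u} hle).exists_colimitsOfShape X
  exact ⟨I, hI, isFiltered_of_isCardinalFiltered I Cardinal.aleph0.{u}, p.diag,
    fun i => (isFinitelyPresentable_iff_isFP _).1 (hle _ (p.prop_diag_obj i)),
    ⟨p.isColimit.coconePointUniqueUpToIso (colimit.isColimit p.diag)⟩⟩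

theorem isCoherent_of_retract {X Y : Sh J} (i : X ⟶ Y) (p : Y ⟶ X) (h : i ≫ p = 𝟙 X)
    (hY : IsCoherent Y) : IsCoherent X :=
  have : IsSplitMono i := IsSplitMono.mk' ⟨p, h⟩
  ⟨isQC_of_section p i h hY.1, isQS_of_mono i hY.2⟩

end Groth.Agent.TopFin.Presentable
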